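import Cfsg.Agent.Lib.SporRecognition.Cert.Fi22O7V.LowerT

/-! Generated coset-enumeration certificate: Fi22 over <vectors of norm -1 in GF(3)^7>, 702 cosets. -/

set_option autoImplicit false
set_option maxRecDepth 20000
set_option linter.all false
set_option Elab.async false

namespace CfsgLib.SporRecognition.Cert.Fi22O7V

open CfsgLib.SporRecognition.CosetCert

def mark4Lit : Nat := 0x400000002004000000000000000000000040080010000000000000000000000000000000000000000000000000000128000000000000100000000000000000040000400
noncomputable def mark4 (u : Nat) : Nat := Nat.land (Nat.shiftRight mark4Lit (Nat.mul 1 u)) 1
def rk4Lit : Nat := 0x20000000000000000c000010000000000000000000000000000000000000000000001000004000000200000000000000000000000000000000000000000000000000000000000000000000000000000000000000000000000000000000010880000000000000000000000000020000000000000000000000000000000000002000000000000000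
noncomputable def rk4 (u : Nat) : Nat := Nat.land (Nat.shiftRight rk4Lit (Nat.mul 2 u)) 3
def via4Lit : Nat := 0xc0000000200000000001000000000000000000000000000000000000000000000000000000000000000000000000000000000000000000000000000000000000000000000000000000000000000000000000000000000000002000400000000000000000000000000000000000000003000000000000000000000000000000000000000000000000000000040000000000000000000000
noncomputable def via4 (u : Nat) : Nat := Nat.land (Nat.shiftRight via4Lit (Nat.mul 3 u)) 7
def src4Lit : Nat := 0x1870000000000000000000000000000000000000000000000000000000000000000000000000000000027c00000000000000000000000000a0000000000000000000000000000000000000000000000000000000000000000000000000000000000000000000000000000000000000000000000000000000000000000000000000000000000000000000000000000000000000000000000000000000000000000000000000000000000000a000000000000000000000000002800000000000000000000000000000000001920000000000000000000000000000000000000000000000000000000000000000000000000000000000000000000000000000000000000000000000000000000000000000000000000000000000000000000000000000000000000000000000000000000000000000000000000000000000000000000000000000000000000000000000000000000000000000000000000000000000000000000000000000000000000000000000000000000000000000000000000000000000000000000000000000000000000000000000000000000000000000000000000000000000000000000000000000000000000000000000000000000000000000000000000000000000000000000000000a00000290007b800000000000000000000000000000000000000000000000000000000000000000000000000000000000000000000000000000000000000000000000000000000000000187000000000000000000000000000000000000000000000000000000000000000000000000000000000000000000000000000000000000000000000000000000000000000000000000000000000000000000000000000000000000001ee000000000000000000000000000000000000000000000000000000000000000000000000000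
noncomputable def src4 (u : Nat) : Nat := Nat.land (Nat.shiftRight src4Lit (Nat.mul 10 u)) 1023
theorem reach4 : allBelow 10 702 (reachStep [L4g0, L4g1, L4g2, L4g3, L4g4, L4g5] 10 mark4 rk4 via4 src4 702) = true := by decide +kernel

theorem count4 : countLab 10 702 mark4 1 = 12 := by decide +kernel

end CfsgLib.SporRecognition.Cert.Fi22O7V
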