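import Cfsg.Agent.Lib.SporRecognition.Cert.Fi22O7V.LowerT

/-! Generated coset-enumeration certificate: Fi22 over <vectors of norm -1 in GF(3)^7>, 702 cosets. -/

set_option autoImplicit false
set_option maxRecDepth 20000
set_option linter.all false
set_option Elab.async false

namespace CfsgLib.SporRecognition.Cert.Fi22O7V

open CfsgLib.SporRecognition.CosetCert

def mark1Lit : Nat := 0x71c71dce1c2ec3050c7c630c59666e308732c88546622528a22488d31a9992429949250aa2524800911002293128048901a88c0020401409002000f818086000000007f84719800000007fc00b770000001fc07f000770a
noncomputable def mark1 (u : Nat) : Nat := Nat.land (Nat.shiftRight mark1Lit (Nat.mul 1 u)) 1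
def rk1Lit : Nat := 0x16c004a80116003706340aa0004d80020b986c002e000145000d0016d900128014000900143a04168128190b2002a00060012d01d028740800800184140160128030020105018800c20020028080800600b4502e005820a03a06a05028180030806c03100605030104000618c28028144028100800000000a06004006000000018028a0402d004020a00000100c00605000005a30400c00b00000000028000040000006140000a05000000020000000000b75a00004800000a000e80000000000000000000000001159b5a001000db005a03800000000000000000000000161b6cac000000081c134164000000000000000000005967740000065d120000000001260eb000600
noncomputable def rk1 (u : Nat) : Nat := Nat.land (Nat.shiftRight rk1Lit (Nat.mul 3 u)) 7
def via1Lit : Nat := 0x6d00024006800244048004800004001024808000800008500024005044008800d000a4014220102802800028001200020014d000010b40000400080080080140000008002008a00428008028000a00400281005001028400401a01010040000a00400040402000082000008228008082010000400000000401000002000000028028002009002028200000000000a02000001228000200440000000000000140000000000000a01000000028000000000a02400005000000a00000000000000000000000000000011a00a0004008d000a01000000000000000000000000151040000000000a2914215000000000000000000000004da800000290aa000000000089069000400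
noncomputable def via1 (u : Nat) : Nat := Nat.land (Nat.shiftRight via1Lit (Nat.mul 3 u)) 7
def src1Lit : Nat := 0x264151d0000000013f8491200000001651a24d00000002659249400067005a6000005d2a38ec00000000022b8b6a200000000008c40028e04ac800925ee00000000009d93c000000000000050002ae00000000008d6a700000002090be5f67e8a00000001b413400000001a22b0000000000a360100000000a60001c9780000055001907fc00002a7ae000000e2448009523b960000000081822000000000090000000000028b1a65f000004bcd70000022c00a79f500000a280000000a3400000000021a00055000a600000002ae79c00001b41900000000464000000079c00000ca0018a000000700067400000006b0000ac00000008ac000000075c0000022000003280000000a78000000026a9d0029d000001a6520000000021740000280026800001ee9d8000027c3c4000026e00000518000019900000000009c000594000021632400002400025800000294000025e000003fc000019d0000a0000000000ab400a780094400978000000014000001b2001d00000003400002a80000023000000000000000000000000000064000000090000000096000000019500000000000000000000000007b80000000a74008180000095000003626a0000000008000008ec003c400000000000000000001af0000072c0000000ab4000015c000000000000000001b27e40057c00a8c00000007c4000000075daf00000000000000000000000000000061c0000000000000000100000000000000000000001060026f0000000000000004980000246000000000000000000000000025400000000000000000000000000000000034a3869a4498000000000000000082500000000000000000081800000000001c9a800000000000000000000000000000000000000000000000000000000000000000000000000000000000019fa8e368c49f9f8a693800000000008c00000002b299649000000008b22c00002ad6d0000000000000000000000000000000000000000000000000000000000000000000000000000000004ca2c010842d570629181d000000000000000000000000018800994030020133e8a002273282b000000000000000000000000000000000000000000000000000000000000000000004d00c52028a14bc54000000000000000000012300e2406244868000000000000000000000000000000002010ac6a000a59b81d00000000004bc0000000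
noncomputable def src1 (u : Nat) : Nat := Nat.land (Nat.shiftRight src1Lit (Nat.mul 10 u)) 1023
theorem reach1 : allBelow 10 702 (reachStep [L1g0, L1g1, L1g2, L1g3, L1g4, L1g5] 1 mark1 rk1 via1 src1 702) = true := by decide +kernel

theorem count1 : countLab 10 702 mark1 1 = 224 := by decide +kernel

end CfsgLib.SporRecognition.Cert.Fi22O7V
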