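import Cfsg.Agent.Lib.SporRecognition.Cert.Fi22O7V.LowerT

/-! Generated coset-enumeration certificate: Fi22 over <vectors of norm -1 in GF(3)^7>, 702 cosets. -/

set_option autoImplicit false
set_option maxRecDepth 20000
set_option linter.all false
set_option Elab.async false

namespace CfsgLib.SporRecognition.Cert.Fi22O7V

open CfsgLib.SporRecognition.CosetCert

def mark2Lit : Nat := 0x80000000000a80020c80041111080888240a18840081044000048444490144849004042000000000000480800200000000000000010000000000000000fc0000000000003fa0000100000000a4000b60000000f8010
noncomputable def mark2 (u : Nat) : Nat := Nat.land (Nat.shiftRight mark2Lit (Nat.mul 1 u)) 1
def rk2Lit : Nat := 0x6000000000000000000000000000000006186000000000200008806000000000c00010030030020006000006006002000100800002180024006000800000006000020000c00c00000000000000804000c00801000c06010000030800404000806020000000800000c00100000000000000000000000000000000000000c060000040000000001000000000000000000000000000000000000000000000000300000000000000000000000000000000000000000000000071b4c00000000000000000000000000000000000000132e36180000000000000030000000000000000000000006181000000000004220d80000000000000000000004e3600000000000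
noncomputable def rk2 (u : Nat) : Nat := Nat.land (Nat.shiftRight rk2Lit (Nat.mul 3 u)) 7
def via2Lit : Nat := 0xa208000000000180004c0800000000080001000003000000000000600200600020140000a200014002000800000004000010001000800000000000001002000000001401006020000021400008001400020000000c00001000000000000000000000000000000000000000000c0200000a0000000000000000000000000000000000000000000000000000000000500000000000000000000000000000000000000000000000035a4400000000000000000000000000000000000000018a9418000000000000003000000000000000000000000a00100000000000214080000000000000000000000951600000000000
noncomputable def via2 (u : Nat) : Nat := Nat.land (Nat.shiftRight via2Lit (Nat.mul 3 u)) 7
def src2Lit : Nat := 0x6cc00000000000000000000000000000000000000000000000000000000000000000000000000000000000000000000000000000000000910006440054c00000000000000000000000000000000958000000000000040870000004c0000000000000000000000000000008900000000000000400000001ae0000000013000000025000000000000d00000000000000000076c000000089800000000100000000000008bc00000870000000000000000100022400000000022f21c000000076c0000000002500000000000000000000000000910000000000000001c400000000000020e0000000145000000000000000000000000000000000000000000000000870000087c000000000013000000021f000000006c00000002440000089800000040000000000000000020e0022f000000000400000710000000000250000006a000001c4000000000000000000000022f0000000000000000022900000000006d80000000000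0000000000000000000000000000000000000000000000000000000000000000000000000000000000000000000000000000000000000000001fc000000dc000000000000000006d80000000000000000000000000000000021c00000000000000000000000000000000000000000000000000000000000000000000000000000000000000000000000000000000000000000000000000000000000000000000000000000000000000021800000000000000000000000000000000000000000000000000000000000000000000000000000000000000000000000000000000000000000000000000000000000000000000000000000000000000007f0842fc376da660000000000000000000000000000000000000000000000000000000000000000000000000000000000000000000000000000000000000000000000000000000000711a80122998e44644006cc0000000000000000000000000000000000000000000000000037000000000000000000000000000000000000000000000000000000000000000000000000000000000dc00898000024c000000000000000000000000000000000006d80057a1f000bf9100000000000000000000000000000000000000000000000000000000000000000000000006d99e729918a40000000000000000000000000000000000000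
noncomputable def src2 (u : Nat) : Nat := Nat.land (Nat.shiftRight src2Lit (Nat.mul 10 u)) 1023
theorem reach2 : allBelow 10 702 (reachStep [L2g0, L2g1, L2g2, L2g3, L2g4, L2g5] 4 mark2 rk2 via2 src2 702) = true := by decide +kernel

theorem count2 : countLab 10 702 mark2 1 = 81 := by decide +kernel

end CfsgLib.SporRecognition.Cert.Fi22O7V
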