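import Cfsg.Agent.Lib.SporRecognition.Cert.Fi22O7V.LowerT

/-! Generated coset-enumeration certificate: Fi22 over <vectors of norm -1 in GF(3)^7>, 702 cosets. -/

set_option autoImplicit false
set_option maxRecDepth 20000
set_option linter.all false
set_option Elab.async false

namespace CfsgLib.SporRecognition.Cert.Fi22O7V

open CfsgLib.SporRecognition.CosetCert

def mark3Lit : Nat := 0x8040000408200480c0020000000000000020420800900000000000000000000000000000000000000800000000000003e80000000000005000000000000000000d0000600
noncomputable def mark3 (u : Nat) : Nat := Nat.land (Nat.shiftRight mark3Lit (Nat.mul 1 u)) 1
def rk3Lit : Nat := 0x80002000000000200040040000208000a000000800000000000000000000000000000400100800400000820000000000000000000000000000000000000000000000000000000000000000000000000000800000000000000000000000000009a88000000000000000000000000033000000000000000000000000000000000000a200000000200000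
noncomputable def rk3 (u : Nat) : Nat := Nat.land (Nat.shiftRight rk3Lit (Nat.mul 2 u)) 3
def via3Lit : Nat := 0x20000014000000000000008000000000800000008080000020000000001800000000000000000000000000000000000000000001800008002000080000000040500000000000000000000000000000000000000000000000000000000000000000000000000000000000000000000000000000000000000000060000000000000000000000000000000000000000002d0880000000000000000000000000000000000000001400000000000000000000000000000000000000000000000000000002450000000000000c0000000
noncomputable def via3 (u : Nat) : Nat := Nat.land (Nat.shiftRight via3Lit (Nat.mul 3 u)) 7
def src3Lit : Nat := 0x2900000000000000000000199000000000000000000000000000000000000000000000001990000000000000000240000000000000240000000000000000000000001ff000007fc000000000000000007e5f90000000000000000000000000000007e40000000000000000000000000000000000000000000000000000000000000000000000000000000000000000000000000000000000000000000000000000000000000000000000000000240000000000000000900000000006480000000000000240000000000000000000000000007e400001870000000000000000000000000000000000000000000000000000000000000000000000000000000000000000000000000000000000000000000000000000000000000000000000000000000000000000000000000000000000000000000000000000000000000000000000000000000000000000000000000000000000000000000000000000000000000000000000000000000000000000000000000000000000000000000000000000000000000000000000000000000000000000000066400000000000000000000000000000000000000000000000000000000000000000000000000000000000000000000000000000000000000000000000000000000000000000000007e4097fd927fc006480000000000000000000000000000000000000000000000000000000000000000000000000000000000000000000000000000000000000000000000000000000000a1000a500000000000000000000000000000000000000000000000000000000000000000000000000000000000000000000000000000000000000000000000000000000000000000000000000000000000000000000000000000000000066592001ff0000000000000000000000000000000000000000000a40000000000000000000000000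
noncomputable def src3 (u : Nat) : Nat := Nat.land (Nat.shiftRight src3Lit (Nat.mul 10 u)) 1023
theorem reach3 : allBelow 10 702 (reachStep [L3g0, L3g1, L3g2, L3g3, L3g4, L3g5] 9 mark3 rk3 via3 src3 702) = true := by decide +kernel

theorem count3 : countLab 10 702 mark3 1 = 30 := by decide +kernel

end CfsgLib.SporRecognition.Cert.Fi22O7V
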